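import Groth.Agent.CurveNondeg.Point
import Groth.Agent.Lib.CurveTwist
import Groth.Agent.FFun.Basic
import Groth.Agent.CurveAlgEqLib.Family

/-!
# Divisors which move in no pencil have finitely many points
-/

set_option autoImplicit false
set_option maxHeartbeats 1600000
set_option linter.style.haveILetI false
set_option linter.unusedSectionVars false
set_option backward.isDefEq.respectTransparency false
set_option backward.isDefEq.respectTransparency.types false

universe u

open CategoryTheory CategoryTheory.Limits AlgebraicGeometry TopologicalSpace Opposite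

namespace Groth.Agent.Jacobian

open Groth.Agent Groth.Agent.H23 Groth.Agent.H23.PicMul Groth.Agent.CurveBundle Groth.Agent.CurveSlope
  Groth.Agent.CurveStable Groth.Agent.CurvePoint Groth.Agent.CurveSpecial Groth.Agent.CurveDuality
open scoped Groth.Agent.H23.PicMul

variable {X : Scheme.{u}} (k : Type u) [Field k] [IsAlgClosed k] [X.Over (Spec (CommRingCat.of k))] [IsIntegral X]
  [IsProper (X ↘ Spec (CommRingCat.of k))] [Smooth (X ↘ Spec (CommRingCat.of k))]

include k in
theorem exists_finite_surjective' (hdim : topologicalKrullDim X = 1) {N : X.Modules} (hN : PicF.IsInvertible N)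
    (φ : N ⟶ Coh.structureModule X) (hφ : φ ≠ 0) :
    ∃ Z : Set X, Z.Finite ∧ ∀ x ∉ Z, Function.Surjective ((DerSch.stalkFunctor X x).map φ) := by
  haveI := CurveCohLib.isNoetherian_of_proper (k := k) (X := X)
  have hO1 := InvEnd.isFinLocFreeOfRank_one (CurveDeg.isInvertible_structureModule (X := X))
  have hN1 := InvEnd.isFinLocFreeOfRank_one hN
  have hNc := coh_of_free k (isFinLocFree_of_rank hN1)
  have hOc := coh_of_free k (isFinLocFree_of_rank hO1)
  haveI : Mono φ := CurveSection.mono_of_ne_zero k hdim.le (isFinLocFree_of_rank hN1) (rk_eq hN1)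
    (isFinLocFree_of_rank hO1) φ hφ
  have hTc : Coh.IsCoh (cokernel φ) := QCoh.isCoh_cokernel hNc.1 hOc φ
  have hT0 : rk (cokernel φ) = 0 := by
    have := rk_add_coh k _ _ _ (shortExact_cokernel_of_mono φ) hOc
    rw [rk_eq hO1, rk_eq hN1] at this
    omega
  have hTcl : ∀ x ∈ CohB1.support (cokernel φ), IsClosed ({x} : Set X) := fun x hx => by
    by_contra hxc
    obtain rfl := CurveCohLib.eq_genericPoint_of_not_isClosed hdim hxc
    letI := (isField_stalk_generic (X := X)).toField
    haveI := finite_stalk_of_coh hTc (genericPoint X)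
    exact hx (Module.finrank_zero_iff.1 hT0)
  refine ⟨CohB1.support (cokernel φ),
    CurveCohLib.finite_of_closedPoints (QCoh.isClosed_support_of_isFT hTc.1 hTc.2) hTcl, fun x hx => ?_⟩
  haveI : Subsingleton ((DerSch.stalkFunctor X x).obj (cokernel φ)) := not_not.1 hx
  haveI : Epi ((DerSch.stalkFunctor X x).map φ) := Preadditive.epi_of_isZero_cokernel _
    ((ModuleCat.isZero_of_subsingleton ((DerSch.stalkFunctor X x).obj (cokernel φ))).of_iso
      (PreservesCokernel.iso (DerSch.stalkFunctor X x) φ).symm)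
  exact (ModuleCat.epi_iff_surjective _).1 inferInstance

include k in
/-- A product of ideals of points maps to the structure sheaf. -/
theorem exists_hom_prod (hdim : topologicalKrullDim X = 1) {ι : Type*} (z : ι → X) (hz : ∀ i, IsClosed ({z i} : Set X))
    (s : Finset ι) : ∃ (N : X.Modules) (u : N ⟶ Coh.structureModule X), PicF.IsInvertible N ∧ u ≠ 0 ∧
      PicF.cl N = ∏ i ∈ s, PicF.cl (ptMod (z i) (hz i)) := by
  classical
  haveI := CurveCohLib.isNoetherian_of_proper (k := k) (X := X)
  induction s using Finset.induction_on with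
  | empty =>
    refine ⟨Coh.structureModule X, 𝟙 _, CurveDeg.isInvertible_structureModule, fun h => ?_, by rw [Finset.prod_empty, PicMul.one_def]⟩
    obtain ⟨x⟩ := (inferInstance : Nonempty X)
    have h2 := congrArg (fun m => Scheme.Modules.Hom.app m ⊤ (H23.Frame.one ⊤)) h
    have h3 : (1 : Γ(X, ⊤)) = 0 := h2
    exact zero_ne_one (α := X.presheaf.stalk x) (by
      rw [← map_one (X.presheaf.germ ⊤ x trivial).hom, h3, map_zero])
  | insert i s his ih =>
    obtain ⟨N, u, hN, hu, hcl⟩ := ih
    have hI := isInvertible_ptMod (z i) (hz i) k hdim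
    haveI : Mono (ClSub.idealModι (ptIdeal (z i) (hz i))) := (shortExact_pt (z i) (hz i)).mono_f
    obtain ⟨D, hD, -, ⟨e⟩⟩ := CurveDuality.exists_inverse_deg k hdim hI
    refine ⟨(DCoh.tensorBi.obj (ptMod (z i) (hz i))).obj N,
      (DCoh.tensorBi.obj (ptMod (z i) (hz i))).map u ≫ (KFlatLib.tensorUnitIso (ptMod (z i) (hz i))).hom ≫
        ClSub.idealModι (ptIdeal (z i) (hz i)), InvX.isInvertible_tensorMod hI hN, fun h => hu ?_, ?_⟩
    · refine CurveRR.eq_zero_of_map_eq_zero (CurveTensor.commIso D (ptMod (z i) (hz i)) ≪≫ e) u ?_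
      rw [← cancel_mono ((KFlatLib.tensorUnitIso (ptMod (z i) (hz i))).hom ≫ ClSub.idealModι (ptIdeal (z i) (hz i))),
        zero_comp]
      exact h
    · rw [Finset.prod_insert his, ← hcl]
      exact cl_tensor _ _

/-- If `L` has one section, finitely many points occur in products of ideals of points isomorphic to its inverse. -/
theorem finite_points_of_h0_eq_one (hdim : topologicalKrullDim X = 1) {L L' : X.Modules} (hL : PicF.IsInvertible L)
    (hL' : PicF.IsInvertible L') (eL : (DCoh.tensorBi.obj L).obj L' ≅ Coh.structureModule X)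
    (h1 : Module.finrank k (Coh.HH X L 0) = 1) (φ : L' ⟶ Coh.structureModule X) (hφ : φ ≠ 0) :
    ∃ Z : Set X, Z.Finite ∧ ∀ (n : ℕ) (w : Fin n → X) (hw : ∀ i, IsClosed ({w i} : Set X)),
      PicF.cl L' = ∏ i, PicF.cl (ptMod (w i) (hw i)) → ∀ i, w i ∈ Z := by
  classical
  haveI := CurveCohLib.isNoetherian_of_proper (k := k) (X := X)
  obtain ⟨Z, hZ, hsur⟩ := exists_finite_surjective' k hdim hL' φ hφ
  refine ⟨Z, hZ, fun n w hw hcl i => ?_⟩
  by_contra hi
  -- a map vanishing at `w i`
  obtain ⟨N, u, hN, hu, hNcl⟩ := exists_hom_prod k hdim w hw (Finset.univ.erase i)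
  have hI := isInvertible_ptMod (w i) (hw i) k hdim
  obtain ⟨a⟩ : Nonempty (L' ≅ (DCoh.tensorBi.obj (ptMod (w i) (hw i))).obj N) := cl_eq_iff.1 (by
    rw [hcl, ← Finset.mul_prod_erase _ _ (Finset.mem_univ i), ← hNcl]
    exact (cl_tensor _ _).symm)
  haveI : Mono (ClSub.idealModι (ptIdeal (w i) (hw i))) := (shortExact_pt (w i) (hw i)).mono_f
  let ψ : L' ⟶ Coh.structureModule X := a.hom ≫ (DCoh.tensorBi.obj (ptMod (w i) (hw i))).map u ≫
    (KFlatLib.tensorUnitIso (ptMod (w i) (hw i))).hom ≫ ClSub.idealModι (ptIdeal (w i) (hw i))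
  have hψ0 : ψ ≫ ClSub.toSubscheme (ptIdeal (w i) (hw i)) = 0 := by
    simp only [ψ, Category.assoc]
    rw [show ClSub.idealModι (ptIdeal (w i) (hw i)) ≫ ClSub.toSubscheme (ptIdeal (w i) (hw i)) = 0 from
      kernel.condition _]
    simp only [comp_zero]
  have hψ : ψ ≠ 0 := fun h => hu (by
    obtain ⟨D, hD, -, ⟨e⟩⟩ := CurveDuality.exists_inverse_deg k hdim hI
    refine CurveRR.eq_zero_of_map_eq_zero (CurveTensor.commIso D (ptMod (w i) (hw i)) ≪≫ e) u ?_
    rw [← cancel_mono ((KFlatLib.tensorUnitIso (ptMod (w i) (hw i))).hom ≫ ClSub.idealModι (ptIdeal (w i) (hw i))),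
      zero_comp, ← cancel_epi a.hom, comp_zero]
    exact h)
  -- `φ` is a multiple of it
  let G : (L' ⟶ Coh.structureModule X) → (Coh.structureModule X ⟶ (DCoh.tensorBi.obj L).obj (Coh.structureModule X)) :=
    fun χ => eL.inv ≫ (DCoh.tensorBi.obj L).map χ
  have hG0 : ∀ χ, G χ = 0 → χ = 0 := fun χ h =>
    CurveRR.eq_zero_of_map_eq_zero (CurveTensor.commIso L' L ≪≫ eL) χ ((cancel_epi eL.inv).1 (h.trans comp_zero.symm))
  let cls : (Coh.structureModule X ⟶ (DCoh.tensorBi.obj L).obj (Coh.structureModule X)) →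
      Coh.HH X ((DCoh.tensorBi.obj L).obj (Coh.structureModule X)) 0 := fun χ =>
    (Sheaf.H.equiv₀ (Coh.toAb ((DCoh.tensorBi.obj L).obj (Coh.structureModule X))) isTerminalTop).symm (χ.app ⊤ (H23.Frame.one ⊤))
  have hcls : ∀ χ, homOfClass (cls χ) = χ := fun χ => CurveRR.hom_ext_one (by
    rw [homOfClass_one]
    exact (Sheaf.H.equiv₀ (Coh.toAb ((DCoh.tensorBi.obj L).obj (Coh.structureModule X))) isTerminalTop).apply_symm_apply _)
  have hcψ : cls (G ψ) ≠ 0 := fun h => hψ (hG0 ψ (by
    rw [← hcls (G ψ), h]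
    refine CurveRR.hom_ext_one ?_
    rw [homOfClass_one]
    exact map_zero _))
  have hfr : Module.finrank k (Coh.HH X ((DCoh.tensorBi.obj L).obj (Coh.structureModule X)) 0) = 1 := by
    rw [(CurveCohLib.hhEquiv (k := k) (KFlatLib.tensorUnitIso L) 0).finrank_eq, h1]
  obtain ⟨c, hc⟩ := (finrank_eq_one_iff_of_nonzero' (cls (G ψ)) hcψ).1 hfr (cls (G φ))
  have hφψ : φ = ψ ≫ Formal.smulMod k (Coh.structureModule X) c := by
    have h := congrArg homOfClass hc
    rw [homOfClass_smul, hcls, hcls] at h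
    refine sub_eq_zero.1 (hG0 _ ?_)
    show eL.inv ≫ (DCoh.tensorBi.obj L).map _ = 0
    rw [Functor.map_sub, Preadditive.comp_sub, Functor.map_comp, sub_eq_zero]
    rw [show (DCoh.tensorBi.obj L).map (Formal.smulMod k (Coh.structureModule X) c) =
      Formal.smulMod k ((DCoh.tensorBi.obj L).obj (Coh.structureModule X)) c from CurveLinear.tensor_map_smul L _ _,
      ← Category.assoc]
    exact h.symm
  have hφ0 : φ ≫ ClSub.toSubscheme (ptIdeal (w i) (hw i)) = 0 := by
    rw [hφψ, Category.assoc, FFun.smulMod_naturality, ← Category.assoc, hψ0, zero_comp]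
  let F := DerSch.stalkFunctor X (w i)
  haveI : Epi (ClSub.toSubscheme (ptIdeal (w i) (hw i))) := epi_toSubscheme _
  refine not_subsingleton_stalk (w i) (hw i) (subsingleton_of_forall_eq 0 fun y => ?_)
  obtain ⟨b, rfl⟩ := (ModuleCat.epi_iff_surjective (F.map (ClSub.toSubscheme (ptIdeal (w i) (hw i))))).1 inferInstance y
  obtain ⟨v, rfl⟩ := hsur (w i) hi b
  rw [← ConcreteCategory.comp_apply, ← F.map_comp, hφ0, F.map_zero]
  rfl

end Groth.Agent.Jacobian
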