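import Groth.Agent.Jacobian.Tower
import Groth.Agent.Jacobian.Divisor
import Groth.Agent.VarDim.FibreDim
import Groth.Agent.VarDim.Top
import Groth.Agent.S1523
import Groth.Agent.S1536

/-!
# The dimension of `Pic⁰` of a curve is the genus
-/

set_option autoImplicit false
set_option maxHeartbeats 1600000
set_option linter.style.haveILetI false
set_option linter.unusedSectionVars false
set_option backward.isDefEq.respectTransparency false
set_option backward.isDefEq.respectTransparency.types false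

universe u

open CategoryTheory CategoryTheory.Limits AlgebraicGeometry TopologicalSpace

noncomputable section

namespace Groth.Agent.Jacobian

open Groth.Agent Groth.Agent.H23 Groth.Agent.H23.PicMul Groth.Agent.GenusOneX Groth.Agent.CurvePoint
open scoped Groth.Agent.H23.PicMul

variable {C S : Scheme.{u}} (f : C ⟶ S) [IsProper f] [SmoothOfRelativeDimension 1 f] [GeometricallyConnected f]

/-- The `n`-th fibre power over a base with its projections. -/
theorem exists_power (B : Over S) (n : ℕ) :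
    ∃ (X : Over S) (r : X ⟶ B) (pr : Fin n → (X ⟶ Over.mk f)), IsProper r.left ∧ GeometricallyConnected r.left ∧
      UniversallyOpen r.left ∧ SmoothOfRelativeDimension n r.left ∧
      (∀ (T : Over S) (b : T ⟶ B) (P : Fin n → (T ⟶ Over.mk f)), ∃ x : T ⟶ X, x ≫ r = b ∧ ∀ i, x ≫ pr i = P i) ∧
      ∀ (T : Over S) (x y : T ⟶ X), x ≫ r = y ≫ r → (∀ i, x ≫ pr i = y ≫ pr i) → x = y := by
  induction n with
  | zero =>
    refine ⟨B, 𝟙 B, fun i => i.elim0, inferInstanceAs (IsProper (𝟙 B.left)), ⟨fun K _ y Z fst snd h => ?_⟩,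
      inferInstanceAs (UniversallyOpen (𝟙 B.left)), inferInstanceAs (SmoothOfRelativeDimension 0 (𝟙 B.left)),
      fun T b _ => ⟨b, Category.comp_id b, fun i => i.elim0⟩, fun T x y h _ => by simpa using h⟩
    haveI : IsIso snd := h.isIso_snd_of_isIso
    exact (snd.homeomorph.connectedSpace_iff).2 inferInstance
  | succ n ih =>
    obtain ⟨X, r, pr, hr, hrc, hro, hrs, hlift, hext⟩ := ih
    haveI := hr
    haveI := hrc
    haveI := hro
    haveI := hrs
    haveI : Smooth f := SmoothOfRelativeDimension.smooth 1 f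
    haveI := smoothOfRelativeDimension_isStableUnderBaseChange.{u} 1
    let Y : Over S := AbDual.ovr X (PicF.XTproj f X)
    let π : Y ⟶ X := AbDual.ovrHom X (PicF.XTproj f X)
    let P0 : Y ⟶ Over.mk f := Over.homMk (pullback.fst f X.hom) pullback.condition
    haveI : IsProper π.left := inferInstanceAs (IsProper (pullback.snd f X.hom))
    haveI : GeometricallyConnected π.left := inferInstanceAs (GeometricallyConnected (pullback.snd f X.hom))
    haveI : UniversallyOpen π.left := inferInstanceAs (UniversallyOpen (pullback.snd f X.hom))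
    haveI : SmoothOfRelativeDimension 1 π.left :=
      MorphismProperty.pullback_snd (P := @SmoothOfRelativeDimension 1) f X.hom inferInstance
    refine ⟨Y, π ≫ r, Fin.cons P0 fun i => π ≫ pr i, inferInstanceAs (IsProper (π.left ≫ r.left)),
      GeometricallyConnected.comp π.left r.left, inferInstanceAs (UniversallyOpen (π.left ≫ r.left)), ?_,
      fun T b P => ?_, fun T x y h hi => ?_⟩
    · have h := smoothOfRelativeDimension_comp (n := 1) (m := n) π.left r.left
      rwa [Nat.add_comm] at h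
    · obtain ⟨x, hx, hxp⟩ := hlift T b (fun i => P i.succ)
      have hw : (P 0).left ≫ f = x.left ≫ X.hom := (Over.w (P 0)).trans (Over.w x).symm
      let y : T ⟶ Y := Over.homMk (pullback.lift (P 0).left x.left hw)
        ((Category.assoc _ _ _).symm.trans ((congrArg (· ≫ X.hom) (pullback.lift_snd _ _ _)).trans (Over.w x)))
      have hy : y ≫ π = x := Over.OverMorphism.ext (pullback.lift_snd _ _ _)
      refine ⟨y, by rw [← Category.assoc, hy, hx], fun i => ?_⟩
      refine Fin.cases ?_ (fun i => ?_) i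
      · exact Over.OverMorphism.ext (pullback.lift_fst _ _ _)
      · rw [Fin.cons_succ, ← Category.assoc, hy, hxp]
    · have h0 := congrArg CommaMorphism.left (hi 0)
      have h1 : x ≫ π = y ≫ π := hext T _ _ (by simpa only [Category.assoc] using h) fun i => by
        have := hi i.succ
        rwa [Fin.cons_succ, ← Category.assoc, ← Category.assoc] at this
      exact Over.OverMorphism.ext (pullback.hom_ext h0 (congrArg CommaMorphism.left h1))

section Field

variable {Ω : Type u} [Field Ω] [IsAlgClosed Ω] (τ : Spec (CommRingCat.of Ω) ⟶ S)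

attribute [local instance] curveOver fibreOver

theorem isClosed_sct (Q : Over.mk τ ⟶ Over.mk f) :
    IsClosed ({sct f Q (IsLocalRing.closedPoint Ω)} : Set ↥(PicF.XT f (Over.mk τ))) := by
  have hs : sct f Q ≫ (PicF.XT f (Over.mk τ) ↘ Spec (CommRingCat.of Ω)) = 𝟙 _ := pullback.lift_snd _ _ _
  exact (pointEquivClosedPoint (PicF.XT f (Over.mk τ) ↘ Spec (CommRingCat.of Ω)) ⟨sct f Q, hs⟩).2

theorem idCl_eq_ptMod (Q : Over.mk τ ⟶ Over.mk f) :
    (idCl f Q).val = PicF.cl (ptMod (sct f Q (IsLocalRing.closedPoint Ω)) (isClosed_sct f τ Q)) := by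
  let s : Spec (CommRingCat.of Ω) ⟶ PicF.XT f (Over.mk τ) := sct f Q
  have hs : s ≫ (PicF.XT f (Over.mk τ) ↘ Spec (CommRingCat.of Ω)) = 𝟙 _ := pullback.lift_snd _ _ _
  haveI : IsClosedImmersion s := isClosedImmersion_of_comp_eq_id _ _ hs
  exact (idCl_val f Q).trans (congrArg (fun I => PicF.cl (ClSub.idealMod I))
    (CurveAlgEqLib.ker_point Ω s (isClosed_sct f τ Q) rfl))

theorem point_ext {P Q : Over.mk τ ⟶ Over.mk f}
    (h : sct f P (IsLocalRing.closedPoint Ω) = sct f Q (IsLocalRing.closedPoint Ω)) : P = Q := by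
  have e : sct f P = sct f Q := ext_of_apply_closedPoint_eq (PicF.XT f (Over.mk τ) ↘ Spec (CommRingCat.of Ω))
    (pullback.lift_snd _ _ _) (pullback.lift_snd _ _ _) h
  refine Over.OverMorphism.ext ?_
  exact (pullback.lift_fst _ _ _).symm.trans ((congrArg (· ≫ pullback.fst f τ) e).trans (pullback.lift_fst _ _ _))

variable {P₀ : Over S} {φ₀ : ∀ T : Over S, PicF.Cl (PicF.XT f T) → (T ⟶ P₀)}
  (hP₀ : AbDual.IsRelPicZeroK Scheme.fppfPrecoverage f P₀ φ₀)

include hP₀ in
/-- Over an algebraically closed field the points of `Pic⁰` are classes. -/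
theorem cl_eq_of_phi_eq {c c' : PicF.Cl (PicF.XT f (Over.mk τ))} (hc : AbDual.IsPicZeroCl f (Over.mk τ) c)
    (hc' : AbDual.IsPicZeroCl f (Over.mk τ) c') (h : φ₀ (Over.mk τ) c = φ₀ (Over.mk τ) c') : c = c' := by
  obtain ⟨R, hR, hRe⟩ := hP₀.locallyInjective _ c c' hc hc' h
  obtain ⟨U, v, s, hv, hs⟩ := exists_rationalPoint hR
  let σ : Over.mk τ ⟶ AbDual.ovr (Over.mk τ) v := Over.homMk s
    (show s ≫ v ≫ τ = τ by rw [← Category.assoc, hs, Category.id_comp])
  have hσ : σ ≫ AbDual.ovrHom (Over.mk τ) v = 𝟙 _ := Over.OverMorphism.ext hs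
  have e : ∀ d : PicF.Cl (PicF.XT f (Over.mk τ)),
      PicF.pullCl (PicF.XTmap f σ) (PicF.pullCl (PicF.XTmap f (AbDual.ovrHom (Over.mk τ) v)) d) = d := by
    intro d
    rw [LineDesc.Rig.pullCl_XTmap_comp, hσ,
      LineDesc.Rig.XTmap_id]
    exact PicClLib.pullCl_id d
  rw [← e c, ← e c', hRe v hv]

include hP₀ in
theorem topologicalKrullDim_pullback_eq_genus [LocallyOfFiniteType P₀.hom] (Q : Over.mk τ ⟶ Over.mk f) :
    topologicalKrullDim ↥(pullback P₀.hom τ) =
      (Module.finrank Ω (Coh.HH (PicF.XT f (Over.mk τ)) (Coh.structureModule _) 1) : WithBot ℕ∞) := by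
  classical
  let XΩ := PicF.XT f (Over.mk τ)
  haveI : IsNoetherian XΩ := CurveCohLib.isNoetherian_of_proper (k := Ω) (X := XΩ)
  haveI : GeometricallyConnected (XΩ ↘ Spec (CommRingCat.of Ω)) :=
    inferInstanceAs (GeometricallyConnected (pullback.snd f τ))
  haveI := GrpSchLib.geometricallyReduced_of_smooth (XΩ ↘ Spec (CommRingCat.of Ω))
  have hdim := curve_dim f τ
  set g := Module.finrank Ω (Coh.HH XΩ (Coh.structureModule XΩ) 1) with hg
  have hχ : Curv2.euler Ω XΩ (Coh.structureModule XΩ) = 1 - (g : ℤ) := by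
    rw [CurveRR.euler_eq_h0_sub_h1 Ω hdim.le QCoh.isCoh_structureModule'.1, S1536.result Ω XΩ, hg]
    rfl
  -- a divisor of degree `g` with one section
  obtain ⟨⟨L, hL, hL0, hL1⟩, -⟩ := S1523.result Ω XΩ hdim
  haveI := hL1
  have hdL : Curv2.deg Ω XΩ L 1 = (g : ℤ) := by
    unfold Curv2.deg
    rw [CurveRR.euler_eq_h0_sub_h1 Ω hdim.le (CurveDeg.isCoh_of_isInvertible hL).1, hL0,
      Module.finrank_zero_of_subsingleton (R := Ω) (M := Coh.HH XΩ L 1), hχ]
    push_cast
    ring
  obtain ⟨L', hL', hdL', ⟨eL⟩⟩ := CurveDuality.exists_inverse_deg Ω hdim hL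
  rw [hdL] at hdL'
  haveI := CurveCohLib.finite_HH (k := Ω) (CurveTensor.isCoh_tensor
    (fun x => let ⟨U, hx, e⟩ := InvEnd.isFinLocFreeOfRank_one hL x; ⟨U, 1, hx, e⟩) QCoh.isCoh_structureModule') 0
  obtain ⟨sec, hsec⟩ := Module.finrank_pos_iff_exists_ne_zero.1
    (show 0 < Module.finrank Ω (Coh.HH XΩ ((DCoh.tensorBi.obj L).obj (Coh.structureModule _)) 0) by
      rw [(CurveCohLib.hhEquiv (k := Ω) (KFlatLib.tensorUnitIso L) 0).finrank_eq, hL0]; norm_num)
  let eL' := CurveTensor.commIso L' L ≪≫ eL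
  have hφ := CurveDuality.homOfTwist_ne_zero eL' hsec
  obtain ⟨z, hz, hcl⟩ := CurveAlgEqLib.exists_points Ω hdim g L' hL' _ hφ hdL'
  obtain ⟨Z, hZ, hZmem⟩ := finite_points_of_h0_eq_one Ω hdim hL hL' eL hL0 _ hφ
  choose Pz hPz using fun i => exists_point_of_closed f τ (hz i)
  -- the fibre power and its map
  let B : Over S := Over.mk τ
  obtain ⟨X, r, pr, hr, hrc, hro, hrs, hlift, hext⟩ := exists_power f B g
  let v : (PicF.Cl (PicF.XT f X))ˣ := ∏ i, idCl f (r ≫ Q) * (idCl f (pr i))⁻¹
  have hv : AbDual.IsPicZeroCl f X v.val :=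
    (mem_degZero_iff f).1 (Subgroup.prod_mem _ fun i _ => idCl_div_mem f _ _)
  have hvmap : ∀ {T : Over S} (x : T ⟶ X), Units.map (pullHom (PicF.XTmap f x)) v =
      ∏ i, idCl f ((x ≫ r) ≫ Q) * (idCl f (x ≫ pr i))⁻¹ := fun x => by
    rw [map_prod]
    exact Finset.prod_congr rfl fun i _ => by rw [map_mul, map_inv, map_idCl, map_idCl, Category.assoc]
  have hw : (φ₀ X v.val).left ≫ P₀.hom = r.left ≫ τ := (Over.w _).trans (Over.w r).symm
  let Y := pullback P₀.hom τ
  let q : Y ⟶ Spec (CommRingCat.of Ω) := pullback.snd P₀.hom τ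
  let A : X.left ⟶ Y := pullback.lift (φ₀ X v.val).left r.left hw
  let p : X.left ⟶ Spec (CommRingCat.of Ω) := r.left
  have hA : A ≫ q = p := pullback.lift_snd _ _ _
  haveI : Surjective A := by
    refine ⟨fun y => ?_⟩
    let K := AlgebraicClosure (Y.residueField y)
    let ξ : Spec (CommRingCat.of K) ⟶ Y :=
      Spec.map (CommRingCat.ofHom (algebraMap (Y.residueField y) K)) ≫ Y.fromSpecResidueField y
    let τ' : Spec (CommRingCat.of K) ⟶ S := ξ ≫ pullback.fst P₀.hom τ ≫ P₀.hom
    let g' : Over.mk τ' ⟶ P₀ := Over.homMk (ξ ≫ pullback.fst P₀.hom τ) (Category.assoc _ _ _)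
    let b : Over.mk τ' ⟶ B := Over.homMk (ξ ≫ q)
      (show (ξ ≫ q) ≫ τ = τ' by rw [Category.assoc, ← pullback.condition])
    obtain ⟨c, hc, hφc⟩ := exists_cl_of_point f hP₀ g'
    have hN : 0 < (g : ℤ) + Curv2.euler K (PicF.XT f (Over.mk τ')) (Coh.structureModule _) := by
      have h2 := euler_curve f τ (B := B) (𝟙 B)
      rw [euler_curve f τ' b, show b.left (IsLocalRing.closedPoint K) = (𝟙 B : B ⟶ B).left (IsLocalRing.closedPoint Ω)
        from Subsingleton.elim (α := ↥(Spec (CommRingCat.of Ω))) _ _, ← h2, hχ]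
      omega
    obtain ⟨P, hP⟩ := exists_points_cl f τ' hc (b ≫ Q) hN
    obtain ⟨x, hx, hxp⟩ := hlift _ b P
    refine ⟨x.left (IsLocalRing.closedPoint K), ?_⟩
    have hxg : x ≫ φ₀ X v.val = g' := by
      rw [← hP₀.natural _ _ x _ hv, ← hφc, hP]
      refine congrArg (φ₀ _) (Eq.trans (show _ = (Units.map (pullHom (PicF.XTmap f x)) v).val from rfl) ?_)
      rw [hvmap, hx]
      simp only [hxp]
    have hl : x.left ≫ A = ξ := by
      refine pullback.hom_ext ?_ ?_
      · rw [Category.assoc, pullback.lift_fst]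
        exact congrArg CommaMorphism.left hxg
      · rw [Category.assoc, pullback.lift_snd]
        exact congrArg CommaMorphism.left hx
    have h := congrArg (fun m => m.base (IsLocalRing.closedPoint K)) hl
    exact h.trans (Y.fromSpecResidueField_apply y _)
  haveI : IsProper p := hr
  haveI : GeometricallyConnected p := hrc
  haveI : SmoothOfRelativeDimension g p := hrs
  letI : X.left.Over (Spec (CommRingCat.of Ω)) := ⟨p⟩
  haveI : Smooth p := SmoothOfRelativeDimension.smooth g p
  haveI : IsProper (X.left ↘ Spec (CommRingCat.of Ω)) := hr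
  haveI : Smooth (X.left ↘ Spec (CommRingCat.of Ω)) := inferInstanceAs (Smooth p)
  haveI : GeometricallyConnected (X.left ↘ Spec (CommRingCat.of Ω)) := hrc
  haveI : IsIntegral X.left := CurveStable.isIntegral_of_geometricallyConnected (k := Ω)
  have hdX : topologicalKrullDim ↥X.left = (g : WithBot ℕ∞) := by
    haveI : SmoothOfRelativeDimension g (𝟙 X.left ≫ p) := by rw [Category.id_comp]; infer_instance
    exact SmoothCrit.eq_dim (k := Ω) p (𝟙 _) g
  haveI : LocallyOfFiniteType q := MorphismProperty.pullback_snd (P := @LocallyOfFiniteType) P₀.hom τ inferInstance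
  haveI : LocallyOfFiniteType (A ≫ q) := by rw [hA]; infer_instance
  haveI : LocallyOfFiniteType A := locallyOfFiniteType_of_comp A q
  haveI : IrreducibleSpace ↥Y :=
    { isPreirreducible_univ := by
        rw [← A.surjective.range_eq, ← Set.image_univ]
        exact (IrreducibleSpace.isIrreducible_univ ↥X.left).isPreirreducible.image _ A.continuous.continuousOn
      toNonempty := ⟨A (genericPoint ↥X.left)⟩ }
  -- the finite fibre
  obtain ⟨x₀, hx₀, hx₀p⟩ := hlift _ (𝟙 B) Pz
  have hs₀ : (x₀.left ≫ A) ≫ q = 𝟙 _ := by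
    rw [Category.assoc, hA]; exact congrArg CommaMorphism.left hx₀
  let y := A (x₀.left (IsLocalRing.closedPoint Ω))
  have hy : IsClosed ({y} : Set ↥Y) := (pointEquivClosedPoint q ⟨x₀.left ≫ A, hs₀⟩).2
  let W : Set ↥X.left := A ⁻¹' {y}
  have hW : IsClosed W := hy.preimage A.continuous
  haveI : JacobsonSpace ↥X.left := LocallyOfFiniteType.jacobsonSpace p
  have hfin : (W ∩ closedPoints ↥X.left).Finite := by
    have hpt : ∀ w ∈ W ∩ closedPoints ↥X.left, ∃ e : Over.mk τ ⟶ X, e.left (IsLocalRing.closedPoint Ω) = w ∧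
        e.left ≫ r.left = 𝟙 _ ∧ ∀ i, sct f (e ≫ pr i) (IsLocalRing.closedPoint Ω) ∈ Z := by
      rintro w ⟨hwW, hwc⟩
      have hs : pointOfClosedPoint p w hwc ≫ p = 𝟙 _ := pointOfClosedPoint_comp p w hwc
      let e : Over.mk τ ⟶ X := Over.homMk (pointOfClosedPoint p w hwc) (by
        rw [← Over.w r, ← Category.assoc]
        exact (congrArg (· ≫ τ) hs).trans (Category.id_comp τ))
      refine ⟨e, pointOfClosedPoint_apply p w hwc _, hs, fun i => ?_⟩
      have her : e ≫ r = 𝟙 B := Over.OverMorphism.ext hs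
      have heA : e.left ≫ A = x₀.left ≫ A := by
        refine ext_of_apply_closedPoint_eq q (by rw [Category.assoc, hA]; exact hs) hs₀ ?_
        rw [Scheme.Hom.comp_apply, Scheme.Hom.comp_apply]
        exact (congrArg A (pointOfClosedPoint_apply p w hwc _)).trans hwW
      have hφe : e ≫ φ₀ X v.val = x₀ ≫ φ₀ X v.val := by
        refine Over.OverMorphism.ext ?_
        have := congrArg (· ≫ pullback.fst P₀.hom τ) heA
        rw [Over.comp_left, Over.comp_left]
        simpa only [A, Category.assoc, pullback.lift_fst] using this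
      rw [← hP₀.natural _ _ e _ hv, ← hP₀.natural _ _ x₀ _ hv] at hφe
      have hcl2 : Units.map (pullHom (PicF.XTmap f e)) v = Units.map (pullHom (PicF.XTmap f x₀)) v :=
        Units.ext (cl_eq_of_phi_eq f τ hP₀ (isPicZeroCl_pull f e hv) (isPicZeroCl_pull f x₀ hv) hφe)
      rw [hvmap, hvmap, her, hx₀, Finset.prod_mul_distrib, Finset.prod_mul_distrib, mul_right_inj,
        Finset.prod_inv_distrib, Finset.prod_inv_distrib, inv_inj] at hcl2
      refine hZmem g (fun i => sct f (e ≫ pr i) (IsLocalRing.closedPoint Ω)) (fun i => isClosed_sct f τ _) ?_ i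
      rw [hcl, ← Finset.prod_congr rfl fun i _ => hPz i, ← Finset.prod_congr rfl fun i _ => idCl_eq_ptMod f τ (e ≫ pr i),
        ← Units.coe_prod, ← Units.coe_prod, hcl2]
      simp only [hx₀p]
    choose e hew her' heZ using hpt
    let F : ↥(W ∩ closedPoints ↥X.left) → (Fin g → Z) := fun w i => ⟨_, heZ w.1 w.2 i⟩
    have hF : Function.Injective F := fun a b hab => by
      have hi : ∀ i, e a.1 a.2 ≫ pr i = e b.1 b.2 ≫ pr i := fun i =>
        point_ext f τ (congrArg Subtype.val (congrFun hab i))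
      have hr' : e a.1 a.2 ≫ r = e b.1 b.2 ≫ r := by
        refine Over.OverMorphism.ext ?_
        exact (her' a.1 a.2).trans (her' b.1 b.2).symm
      have := hext _ _ _ hr' hi
      exact Subtype.ext (by rw [← hew a.1 a.2, ← hew b.1 b.2, this])
    haveI := hZ.to_subtype
    haveI := Finite.of_injective F hF
    exact Set.toFinite _
  have hWc : ∀ w ∈ W, IsClosed ({w} : Set ↥X.left) := by
    intro w hw'
    have h1 : W ⊆ closedPoints ↥X.left := by
      have h2 : IsClosed (W ∩ closedPoints ↥X.left) := by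
        rw [← Set.biUnion_of_singleton (W ∩ closedPoints ↥X.left)]
        exact hfin.isClosed_biUnion fun z hz => hz.2
      have h3 := closure_inter_closedPoints hW
      rw [h2.closure_eq] at h3
      exact h3 ▸ Set.inter_subset_right
    exact h1 hw'
  obtain ⟨x', -, -, hfx, hle⟩ := VarDim.exists_fdeg_ge A q
    (genericPoint_specializes (x₀.left (IsLocalRing.closedPoint Ω)))
  have hx'c := hWc x' (show A x' = y from hfx)
  have hdx' : VarDim.deg p x' = 0 := by
    have h := VarDim.topologicalKrullDim_closure_singleton p x'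
    rw [hx'c.closure_eq] at h
    haveI : Subsingleton ↥({x'} : Set ↥X.left) := ⟨fun a b => Subtype.ext (a.2.trans b.2.symm)⟩
    haveI : Nonempty ↥({x'} : Set ↥X.left) := ⟨⟨x', rfl⟩⟩
    have h' := h.symm.le.trans (topologicalKrullDim_zero_of_discreteTopology _)
    exact Nat.le_zero.1 (by exact_mod_cast h')
  have h3' := VarDim.deg_eq_add A q hA x'
  rw [hdx'] at h3'
  have h0 : VarDim.fdeg A x' = 0 := by omega
  rw [h0, Nat.le_zero] at hle
  have h3 := VarDim.deg_eq_add A q hA (genericPoint ↥X.left)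
  rw [hle, add_zero] at h3
  have hgen : A (genericPoint ↥X.left) = genericPoint ↥Y := by
    refine (Specializes.antisymm ?_ (genericPoint_specializes _)).eq
    obtain ⟨w, hw'⟩ := A.surjective (genericPoint ↥Y)
    rw [← hw']
    exact (genericPoint_specializes w).map A.continuous
  rw [VarDim.topologicalKrullDim_eq_deg_genericPoint q, ← hgen, ← h3,
    ← VarDim.topologicalKrullDim_eq_deg_genericPoint p, hdX]

end Field

end Groth.Agent.Jacobian
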