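import Groth.Agent.Jacobian.Tower
import Groth.Agent.PicCurveSmooth.Sections
import Groth.Agent.S12409

/-!
# `Pic⁰` inside `Pic` of a relative curve
-/

set_option autoImplicit false
set_option maxHeartbeats 1600000
set_option linter.style.haveILetI false
set_option linter.unusedSectionVars false
set_option backward.isDefEq.respectTransparency false
set_option backward.isDefEq.respectTransparency.types false

universe u

open CategoryTheory CategoryTheory.Limits AlgebraicGeometry TopologicalSpace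

noncomputable section

namespace Groth.Agent.Jacobian

open Groth.Agent Groth.Agent.H23 Groth.Agent.H23.PicMul Groth.Agent.GenusOneX
open scoped Groth.Agent.H23.PicMul

variable {C S : Scheme.{u}} (f : C ⟶ S) [IsProper f] [SmoothOfRelativeDimension 1 f] [GeometricallyConnected f]
  {P : Over S} {φ : ∀ T : Over S, PicF.Cl (PicF.XT f T) → (T ⟶ P)}
  (hP : AbDual.IsRelPicK Scheme.fppfPrecoverage f P φ)
  {P₀ : Over S} {φ₀ : ∀ T : Over S, PicF.Cl (PicF.XT f T) → (T ⟶ P₀)}
  (hP₀ : AbDual.IsRelPicZeroK Scheme.fppfPrecoverage f P₀ φ₀)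
  {j : P₀ ⟶ P} (hj : ∀ (T : Over S) (c : PicF.Cl (PicF.XT f T)), AbDual.IsPicZeroCl f T c → φ₀ T c ≫ j = φ T c)

include hP hP₀ hj in
theorem cancel_j {T : Over S} (x y : T ⟶ P₀) (h : x ≫ j = y ≫ j) : x = y := by
  obtain ⟨R, hR, hRe⟩ := hP₀.locallySurjective T x
  refine hom_ext_cover hR x y fun U u hu => ?_
  obtain ⟨c, hc, hx⟩ := hRe u hu
  obtain ⟨R', hR', hRe'⟩ := hP₀.locallySurjective (AbDual.ovr T u) (AbDual.ovrHom T u ≫ y)
  refine hom_ext_cover hR' _ _ fun V v hv => ?_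
  obtain ⟨c', hc', hy⟩ := hRe' v hv
  let g := AbDual.ovrHom (AbDual.ovr T u) v
  have hc₁ := isPicZeroCl_pull f g hc
  have e1 : φ₀ _ (PicF.pullCl (PicF.XTmap f g) c) = g ≫ AbDual.ovrHom T u ≫ x := by rw [hP₀.natural _ _ g c hc, hx]
  have hφ : φ _ (PicF.pullCl (PicF.XTmap f g) c) = φ _ c' := by
    rw [← hj _ _ hc₁, ← hj _ _ hc', e1, hy]
    simp only [g, Category.assoc, h]
  obtain ⟨R'', hR'', hRe''⟩ := hP.locallyInjective _ _ c' ((isPicZeroCl_iff f).1 hc₁).1 ((isPicZeroCl_iff f).1 hc').1 hφ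
  refine hom_ext_cover hR'' _ _ fun W w hw => ?_
  rw [← e1, ← hy, ← hP₀.natural _ _ _ _ hc₁, ← hP₀.natural _ _ _ _ hc', hRe'' w hw]

include hP hP₀ hj in
theorem isOpenImmersion_isClosedImmersion :
    IsOpenImmersion j.left ∧ IsClosedImmersion j.left := by
  classical
  haveI : Smooth f := SmoothOfRelativeDimension.smooth 1 f
  obtain ⟨d, hd, hkey⟩ := S12409.result f (fibre_dim f) P φ hP
  have key : ∀ (T : Over S) (c : PicF.Cl (PicF.XT f T)), PicF.IsInvertibleCl c → ∀ t : T.left,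
      d ((φ T c).left t) = DegData.deg f T c t := by
    rintro T _ ⟨L, rfl, hL⟩ t
    exact hkey T L hL t
  let U : P.left.Opens := ⟨d ⁻¹' {0}, hd {0}⟩
  -- `j` lands in `U`
  have hjU : Set.range j.left ⊆ Set.range U.ι := by
    rw [U.range_ι]
    rintro _ ⟨p, rfl⟩
    obtain ⟨R, hR, hRe⟩ := hP₀.locallySurjective P₀ (𝟙 P₀)
    obtain ⟨Ui, ui, hui, -, -, hsu⟩ := LineDesc.Rig.exists_small_cover hR
    obtain ⟨w, hw⟩ := hsu.surj p
    obtain ⟨i, z, hz⟩ : ∃ i z, ui i z = p := by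
      obtain ⟨i, z, hz⟩ := (sigmaOpenCover Ui).exists_eq w
      refine ⟨i, z, ?_⟩
      rw [← hw, ← hz, ← Scheme.Hom.comp_apply]
      exact congrArg (fun m => m.base z) (colimit.ι_desc (Cofan.mk _ ui) ⟨i⟩).symm
    obtain ⟨c, hc, hx⟩ := hRe (ui i) (hui i)
    have h1 := key _ c ((isPicZeroCl_iff f).1 hc).1 z
    rw [((isPicZeroCl_iff f).1 hc).2 z, ← hj _ c hc, hx, Category.comp_id] at h1
    show d (j.left p) = 0
    rw [← h1, ← hz]
    rfl
  let jU : P₀.left ⟶ (U : Scheme.{u}) := IsOpenImmersion.lift U.ι j.left hjU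
  have hjU' : jU ≫ U.ι = j.left := IsOpenImmersion.lift_fac _ _ _
  -- the inverse
  let UO : Over S := Over.mk (U.ι ≫ P.hom)
  let inc : UO ⟶ P := Over.homMk U.ι rfl
  obtain ⟨R, hR, hRe⟩ := hP.locallySurjective UO inc
  obtain ⟨Ui, ui, hui, hfl, hfp, hsu⟩ := LineDesc.Rig.exists_small_cover hR
  haveI := hfl; haveI := hfp; haveI := hsu
  have hex : ∀ t, ∃ x : AbDual.ovr UO (ui t) ⟶ P₀, x ≫ j = AbDual.ovrHom UO (ui t) ≫ inc := fun t => by
    obtain ⟨c, hc, hφ⟩ := hRe (ui t) (hui t)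
    have h0 : AbDual.IsPicZeroCl f _ c := (isPicZeroCl_iff f).2 ⟨hc, fun z => by
      rw [← key _ c hc z, hφ]
      exact (ui t z).2⟩
    exact ⟨φ₀ _ c, (hj _ c h0).trans hφ⟩
  choose x hx using hex
  let sV : ∐ Ui ⟶ P₀.left := Sigma.desc fun t => (x t).left
  have hsVh : sV ≫ P₀.hom = Sigma.desc ui ≫ UO.hom := Sigma.hom_ext _ _ fun t => by
    rw [colimit.ι_desc_assoc, colimit.ι_desc_assoc]
    exact Over.w (x t)
  have hsVj : sV ≫ j.left = Sigma.desc ui ≫ U.ι := Sigma.hom_ext _ _ fun t => by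
    rw [colimit.ι_desc_assoc, colimit.ι_desc_assoc]
    exact congrArg CommaMorphism.left (hx t)
  have hcomp : ∀ {Z : Scheme.{u}} (g₁ g₂ : Z ⟶ ∐ Ui), g₁ ≫ Sigma.desc ui = g₂ ≫ Sigma.desc ui → g₁ ≫ sV = g₂ ≫ sV := by
    intro Z g₁ g₂ h
    let ζ : Over S := Over.mk (g₁ ≫ Sigma.desc ui ≫ UO.hom)
    let y₁ : ζ ⟶ P₀ := Over.homMk (g₁ ≫ sV) (show (g₁ ≫ sV) ≫ P₀.hom = _ by rw [Category.assoc, hsVh]; rfl)
    let y₂ : ζ ⟶ P₀ := Over.homMk (g₂ ≫ sV) (show (g₂ ≫ sV) ≫ P₀.hom = _ by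
      rw [Category.assoc, hsVh, ← Category.assoc, ← h, Category.assoc]; rfl)
    refine congrArg CommaMorphism.left (cancel_j f hP hP₀ hj y₁ y₂ (Over.OverMorphism.ext ?_))
    show (g₁ ≫ sV) ≫ _ = (g₂ ≫ sV) ≫ _
    rw [Category.assoc, Category.assoc, hsVj, ← Category.assoc, h, Category.assoc]
  let s := EffectiveEpi.desc (Sigma.desc ui) sV fun g₁ g₂ h => hcomp g₁ g₂ h
  have hs : Sigma.desc ui ≫ s = sV := EffectiveEpi.fac _ _ _
  have hsj : s ≫ j.left = U.ι := by
    rw [← cancel_epi (Sigma.desc ui), ← Category.assoc, hs, hsVj]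
  have hsa : s ≫ jU = 𝟙 _ := by
    rw [← cancel_mono U.ι, Category.assoc, hjU', hsj, Category.id_comp]
  haveI : IsIso jU := by
    refine ⟨s, ?_, hsa⟩
    have hw : (jU ≫ s) ≫ P₀.hom = P₀.hom := by
      rw [← Over.w j, Category.assoc, ← Category.assoc s, hsj, ← Category.assoc, hjU']
    refine congrArg CommaMorphism.left (cancel_j f hP hP₀ hj (Over.homMk (jU ≫ s) hw) (𝟙 _) (Over.OverMorphism.ext ?_))
    show (jU ≫ s) ≫ j.left = 𝟙 _ ≫ j.left
    rw [Category.assoc, hsj, hjU', Category.id_comp]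
  haveI : IsClosedImmersion U.ι := by
    refine IsClosedImmersion.of_isPreimmersion U.ι ?_
    rw [U.range_ι]
    exact hd.isClosed_fiber 0
  rw [← hjU']
  exact ⟨inferInstance, inferInstance⟩

include hP₀ in
theorem isProper_hom [LocallyOfFiniteType P₀.hom] [IsSeparated P₀.hom] : IsProper P₀.hom := by
  haveI : Smooth f := SmoothOfRelativeDimension.smooth 1 f
  haveI : Surjective f := inferInstance
  haveI := geometricallyIntegral f
  haveI : GeometricallyReduced f := inferInstance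
  choose D S' q h hsD hD hS' hq hqs hh using PicCurveSmooth.exists_section_etale f
  haveI : UniversallyClosed P₀.hom := by
    refine (IsZariskiLocalAtTarget.iff_of_iSup_eq_top (P := @UniversallyClosed) D
      (top_le_iff.1 fun s _ => TopologicalSpace.Opens.mem_iSup.2 ⟨s, hsD s⟩)).2 fun s => ?_
    let g : S' s ⟶ S := q s ≫ (D s).ι
    let B : Over S := Over.mk g
    let Q : B ⟶ Over.mk f := Over.homMk (h s) (hh s)
    haveI := hS' s
    haveI : CompactSpace B.left := inferInstanceAs (CompactSpace (S' s))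
    have huc : UniversallyClosed (pullback.snd P₀.hom g) := universallyClosed_pullback_snd f hP₀ B Q
    haveI := hq s
    haveI := hqs s
    haveI : IsAffine (D s : Scheme.{u}) := hD s
    have hprop : (@Surjective ⊓ @Flat ⊓ @QuasiCompact : MorphismProperty Scheme.{u}) (q s) :=
      ⟨⟨inferInstance, inferInstance⟩, inferInstance⟩
    let e : pullback P₀.hom g ⟶ (P₀.hom ⁻¹ᵁ D s : Scheme.{u}) :=
      IsOpenImmersion.lift (P₀.hom ⁻¹ᵁ D s).ι (pullback.fst P₀.hom g) (by
        rw [Scheme.Opens.range_ι]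
        rintro _ ⟨z, rfl⟩
        show P₀.hom (pullback.fst P₀.hom g z) ∈ D s
        rw [← Scheme.Hom.comp_apply, pullback.condition, Scheme.Hom.comp_apply]
        exact (q s (pullback.snd P₀.hom g z)).2)
    have he : e ≫ (P₀.hom ⁻¹ᵁ D s).ι = pullback.fst P₀.hom g := IsOpenImmersion.lift_fac _ _ _
    have sq : IsPullback e (pullback.snd P₀.hom g) (P₀.hom ∣_ D s) (q s) :=
      IsPullback.of_right (by rw [he]; exact IsPullback.of_hasPullback P₀.hom g)
        (by rw [← cancel_mono (D s).ι, Category.assoc, morphismRestrict_ι, ← Category.assoc, he, pullback.condition,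
              Category.assoc])
        (isPullback_morphismRestrict P₀.hom (D s)).flip
    exact MorphismProperty.of_isPullback_of_descendsAlong (P := @UniversallyClosed) sq.flip hprop huc
  exact {}

end Groth.Agent.Jacobian
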