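import Groth.Agent.GenusOneX.Abel
import Groth.Agent.EulerConst.DegData

/-!
# Classes in `Pic⁰` of a relative curve: the degree criterion, and descent of points
-/

set_option autoImplicit false
set_option maxHeartbeats 1600000
set_option linter.style.haveILetI false
set_option linter.unusedSectionVars false
set_option backward.isDefEq.respectTransparency false
set_option backward.isDefEq.respectTransparency.types false

universe u

open CategoryTheory CategoryTheory.Limits AlgebraicGeometry TopologicalSpace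

namespace Groth.Agent.Jacobian

open Groth.Agent Groth.Agent.H23 Groth.Agent.H23.PicMul Groth.Agent.GenusOneX
open scoped Groth.Agent.H23.PicMul

attribute [local instance] fibreOver

variable {C S : Scheme.{u}} (f : C ⟶ S) [IsProper f] [SmoothOfRelativeDimension 1 f] [GeometricallyConnected f]

theorem geometricallyIntegral : GeometricallyIntegral f := by
  refine ⟨fun K _ y Z fst snd h => ?_⟩
  letI : Z.Over (Spec (CommRingCat.of K)) := ⟨snd⟩
  haveI : IsProper (Z ↘ Spec (CommRingCat.of K)) := MorphismProperty.of_isPullback (P := @IsProper) h inferInstance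
  haveI : Smooth (Z ↘ Spec (CommRingCat.of K)) :=
    MorphismProperty.of_isPullback (P := @Smooth) h (SmoothOfRelativeDimension.smooth 1 f)
  haveI : GeometricallyConnected (Z ↘ Spec (CommRingCat.of K)) :=
    MorphismProperty.of_isPullback (P := @GeometricallyConnected) h inferInstance
  exact CurveStable.isIntegral_of_geometricallyConnected (k := K)

theorem isPicZeroCl_iff {T : Over S} {c : PicF.Cl (PicF.XT f T)} :
    AbDual.IsPicZeroCl f T c ↔ PicF.IsInvertibleCl c ∧ ∀ t, DegData.deg f T c t = 0 := by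
  haveI : Smooth f := SmoothOfRelativeDimension.smooth 1 f
  constructor
  · rintro ⟨L, rfl, hL, h0⟩
    exact ⟨⟨L, rfl, hL⟩, fun t => sub_eq_zero.2 (S12412.result f (fibre_dim f) T L hL t (h0 t))⟩
  · rintro ⟨⟨L, rfl, hL⟩, h0⟩
    rw [← IsUnit.unit_spec (isUnit_cl hL)]
    refine isPicZeroCl_of_degZero f ⟨L, hL, (IsUnit.unit_spec _).symm, fun t => ?_⟩
    have h := h0 t
    change FGA.eulerCharLE _ _ _ 1 - FGA.eulerCharLE _ _ _ 1 = 0 at h
    haveI := fibre_isProper (PicF.XTproj f T) t
    haveI : IsNoetherian ((PicF.XTproj f T).fiber t) :=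
      CurveCohLib.isNoetherian_of_proper (k := T.left.residueField t) (X := (PicF.XTproj f T).fiber t)
    have hd := (fibre_dim (PicF.XTproj f T) t).le
    unfold Curv2.deg
    rw [EulerConst.euler_eq_eulerCharLE (T.left.residueField t) 1 hd
        (ProjUPX.isQCoh_of_isInvertible (PicClLib.isInvertible_pullback _ hL)),
      EulerConst.euler_eq_eulerCharLE (T.left.residueField t) 1 hd QCoh.isCoh_structureModule'.1]
    push_cast
    rw [one_mul]
    exact h

theorem isPicZeroCl_pull {T T' : Over S} (g : T' ⟶ T) {c : PicF.Cl (PicF.XT f T)} (hc : AbDual.IsPicZeroCl f T c) :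
    AbDual.IsPicZeroCl f T' (PicF.pullCl (PicF.XTmap f g) c) := by
  rw [isPicZeroCl_iff] at hc ⊢
  exact ⟨DegData.isInvertibleCl_pullCl _ hc.1, fun t => (DegData.deg_pullCl f (fibre_dim f) g hc.1 t).trans (hc.2 _)⟩

/-- The difference of two points has degree zero. -/
theorem idCl_div_mem {T : Over S} (a b : T ⟶ Over.mk f) : idCl f a * (idCl f b)⁻¹ ∈ degZero f T := by
  obtain ⟨D, hD, e⟩ := PicInv.exists_inverse (isInvertible_ker (PicF.XTproj f T) (sct_proj f b))
  have h1 : PicF.cl (ClSub.idealMod (sct f b).ker) * PicF.cl D = PicF.cl (Coh.structureModule _) := cl_eq_iff.2 e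
  have hi := isInvertible_ker (PicF.XTproj f T) (sct_proj f a)
  refine ⟨_, InvX.isInvertible_tensorMod hi hD, ?_, fun t => ?_⟩
  · rw [Units.val_mul, idCl_val, cl_tensor]
    exact congrArg _ (Units.inv_eq_of_mul_eq_one_right (by rw [idCl_val]; exact h1)).symm
  · haveI := fibre_isProper (PicF.XTproj f T) t
    have h2 := deg_mul (PicF.XTproj f T) t (isInvertible_ker (PicF.XTproj f T) (sct_proj f b)) hD h1
    rw [deg_pullback_structure, deg_ker (PicF.XTproj f T) (sct_proj f b) t] at h2
    rw [deg_mul (PicF.XTproj f T) t hi hD rfl, deg_ker (PicF.XTproj f T) (sct_proj f a) t]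
    exact h2.symm

theorem mem_degZero_iff {T : Over S} {v : (PicF.Cl (PicF.XT f T))ˣ} :
    v ∈ degZero f T ↔ AbDual.IsPicZeroCl f T v.val := by
  refine ⟨isPicZeroCl_of_degZero f, fun h => ?_⟩
  obtain ⟨w, hw, e⟩ := degZero_of_isPicZeroCl f h
  rwa [← Units.ext e]

/-- Morphisms out of an `S`-scheme agree if they agree on an fppf cover. -/
theorem hom_ext_cover {T P : Over S} {R : Presieve T.left} (hR : R ∈ Scheme.fppfPrecoverage T.left) (x y : T ⟶ P)
    (h : ∀ ⦃U : Scheme.{u}⦄ (u : U ⟶ T.left), R u → AbDual.ovrHom T u ≫ x = AbDual.ovrHom T u ≫ y) : x = y := by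
  obtain ⟨Ui, ui, hui, hfl, hfp, hsu⟩ := LineDesc.Rig.exists_small_cover hR
  haveI := hfl; haveI := hsu
  haveI : Epi (Sigma.desc ui) := Flat.epi_of_flat_of_surjective _
  refine Over.OverMorphism.ext ((cancel_epi (Sigma.desc ui)).1 (Sigma.hom_ext _ _ fun t => ?_))
  rw [colimit.ι_desc_assoc, colimit.ι_desc_assoc]
  exact congrArg CommaMorphism.left (h (ui t) (hui t))

/-- An fppf cover of the spectrum of an algebraically closed field has a rational point. -/
theorem exists_rationalPoint {Ω : Type u} [Field Ω] [IsAlgClosed Ω] {R : Presieve (Spec (CommRingCat.of Ω))}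
    (hR : R ∈ Scheme.fppfPrecoverage (Spec (CommRingCat.of Ω))) :
    ∃ (U : Scheme.{u}) (v : U ⟶ Spec (CommRingCat.of Ω)) (s : Spec (CommRingCat.of Ω) ⟶ U), R v ∧ s ≫ v = 𝟙 _ := by
  obtain ⟨U, v, hv, hfp, hne⟩ : ∃ (U : Scheme.{u}) (v : U ⟶ Spec (CommRingCat.of Ω)),
      R v ∧ LocallyOfFinitePresentation v ∧ Nonempty U := by
    obtain ⟨hs, hp⟩ := hR
    obtain ⟨Y, g, hg, y, -⟩ := hs (IsLocalRing.closedPoint Ω)
    obtain ⟨hu⟩ := hg
    exact ⟨_, _, hu, (hp hu).2, ⟨y⟩⟩
  haveI := hfp
  haveI := hne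
  haveI : JacobsonSpace U := LocallyOfFiniteType.jacobsonSpace v
  obtain ⟨x, hx⟩ : (closedPoints U).Nonempty := by
    rw [Set.nonempty_iff_ne_empty]
    intro h
    have := closure_closedPoints (X := U)
    rw [h, closure_empty] at this
    exact (Set.univ_nonempty (α := U)).ne_empty this.symm
  exact ⟨U, v, pointOfClosedPoint v x hx, hv, pointOfClosedPoint_comp v x hx⟩

end Groth.Agent.Jacobian
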