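import Groth.Agent.Jacobian.Crit
import Groth.Agent.CurveBC.Coh

/-!
# Degree zero classes on the curve over a geometric point, as sums of differences of points
-/

set_option autoImplicit false
set_option maxHeartbeats 1600000
set_option linter.style.haveILetI false
set_option linter.unusedSectionVars false
set_option backward.isDefEq.respectTransparency false
set_option backward.isDefEq.respectTransparency.types false

universe u

open CategoryTheory CategoryTheory.Limits AlgebraicGeometry TopologicalSpace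

noncomputable section

namespace Groth.Agent.Jacobian

open Groth.Agent Groth.Agent.H23 Groth.Agent.H23.PicMul Groth.Agent.GenusOneX Groth.Agent.CurveAlgEqLib
  Groth.Agent.CurvePoint
open scoped Groth.Agent.H23.PicMul

variable {C S : Scheme.{u}} (f : C ⟶ S) [IsProper f] [SmoothOfRelativeDimension 1 f] [GeometricallyConnected f]

/-- The Euler characteristic of the structure sheaf on the fibres. -/
def chi (B : Over S) (b : B.left) : ℤ :=
  PerfAux.eulerChar (PicF.XTproj f B) (Coh.structureModule (PicF.XT f B)) b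

theorem isLocallyConstant_chi (B : Over S) : IsLocallyConstant (chi f B) := by
  haveI : Flat f := by
    haveI : Smooth f := SmoothOfRelativeDimension.smooth 1 f
    infer_instance
  haveI : LocallyOfFinitePresentation f := by
    haveI : Smooth f := SmoothOfRelativeDimension.smooth 1 f
    infer_instance
  let p := PicF.XTproj f B
  haveI : IsProper p := inferInstanceAs (IsProper (pullback.snd f B.hom))
  haveI : Flat p := inferInstanceAs (Flat (pullback.snd f B.hom))
  haveI : LocallyOfFinitePresentation p := inferInstanceAs (LocallyOfFinitePresentation (pullback.snd f B.hom))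
  exact DerBC7.isLocallyConstant_eulerChar (ProjUPX.isQCoh_of_isInvertible InvX.isInvertible_structureModule)
    (QCoh.isFP_of_isFinLocFree (fun x =>
      let ⟨U, hx, e⟩ := InvEnd.isFinLocFreeOfRank_one InvX.isInvertible_structureModule x; ⟨U, 1, hx, e⟩))
    (H23.Seesaw.isFlatOver_of_isInvertible p InvX.isInvertible_structureModule)

theorem exists_chi_bound (B : Over S) [CompactSpace B.left] : ∃ N : ℕ, ∀ b, 0 < (N : ℤ) + chi f B b := by
  obtain ⟨m, hm⟩ := ((isLocallyConstant_chi f B).range_finite).bddBelow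
  exact ⟨(1 - m).toNat, fun b => by have := hm ⟨b, rfl⟩; omega⟩

section Field

variable {Ω : Type u} [Field Ω] [IsAlgClosed Ω] (τ : Spec (CommRingCat.of Ω) ⟶ S)

/-- The curve over a geometric point, over the algebraically closed field. -/
@[reducible] def curveOver : (PicF.XT f (Over.mk τ)).Over (Spec (CommRingCat.of Ω)) := ⟨pullback.snd f τ⟩

attribute [local instance] curveOver fibreOver

instance isProper_curve : IsProper (PicF.XT f (Over.mk τ) ↘ Spec (CommRingCat.of Ω)) :=
  inferInstanceAs (IsProper (pullback.snd f τ))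

instance smoothOne_curve : SmoothOfRelativeDimension 1 (PicF.XT f (Over.mk τ) ↘ Spec (CommRingCat.of Ω)) :=
  haveI := smoothOfRelativeDimension_isStableUnderBaseChange 1
  MorphismProperty.pullback_snd (P := @SmoothOfRelativeDimension 1) f τ inferInstance

instance smooth_curve : Smooth (PicF.XT f (Over.mk τ) ↘ Spec (CommRingCat.of Ω)) :=
  SmoothOfRelativeDimension.smooth 1 _

instance isIntegral_curve : IsIntegral (PicF.XT f (Over.mk τ)) :=
  haveI : GeometricallyConnected (PicF.XT f (Over.mk τ) ↘ Spec (CommRingCat.of Ω)) :=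
    inferInstanceAs (GeometricallyConnected (pullback.snd f τ))
  CurveStable.isIntegral_of_geometricallyConnected (k := Ω)

theorem curve_dim : topologicalKrullDim ↥(PicF.XT f (Over.mk τ)) = 1 := by
  haveI : SmoothOfRelativeDimension 1 (𝟙 (PicF.XT f (Over.mk τ)) ≫ (PicF.XT f (Over.mk τ) ↘ Spec (CommRingCat.of Ω))) := by
    rw [Category.id_comp]; infer_instance
  exact SmoothCrit.eq_dim (k := Ω) (PicF.XT f (Over.mk τ) ↘ Spec (CommRingCat.of Ω)) (𝟙 _) 1

/-- The Euler characteristic is the one of the fibre below. -/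
theorem euler_curve {B : Over S} (b : Over.mk τ ⟶ B) :
    Curv2.euler Ω (PicF.XT f (Over.mk τ)) (Coh.structureModule _) = chi f B (b.left (IsLocalRing.closedPoint Ω)) := by
  let q := PicF.XTproj f B
  let β : Spec (CommRingCat.of Ω) ⟶ B.left := b.left
  let t := β (IsLocalRing.closedPoint Ω)
  let α : B.left.residueField t ⟶ CommRingCat.of Ω := B.left.descResidueField (Scheme.stalkClosedPointTo β)
  have hα : Spec.map α ≫ B.left.fromSpecResidueField t = β :=
    Scheme.descResidueField_stalkClosedPointTo_fromSpecResidueField Ω B.left β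
  letI : Algebra (B.left.residueField t) Ω := α.hom.toAlgebra
  haveI : IsProper q := inferInstanceAs (IsProper (pullback.snd f B.hom))
  haveI := fibre_isProper q t
  haveI : IsNoetherian (q.fiber t) := CurveCohLib.isNoetherian_of_proper (k := B.left.residueField t) (X := q.fiber t)
  have sq : IsPullback (PicF.XTmap f b) (pullback.snd f τ) q β := LineDesc.Rig.isPullback_XTmap b
  let g : PicF.XT f (Over.mk τ) ⟶ q.fiber t :=
    pullback.lift (PicF.XTmap f b) (pullback.snd f τ ≫ Spec.map α) (by rw [sq.w, Category.assoc, hα])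
  have hpb : IsPullback g (PicF.XT f (Over.mk τ) ↘ Spec (CommRingCat.of Ω))
      (q.fiber t ↘ Spec (CommRingCat.of (B.left.residueField t)))
      (Spec.map (CommRingCat.ofHom (algebraMap (B.left.residueField t) Ω))) := by
    refine IsPullback.of_right ?_ (pullback.lift_snd _ _ _) (IsPullback.of_hasPullback q (B.left.fromSpecResidueField t))
    rw [show g ≫ pullback.fst q (B.left.fromSpecResidueField t) = PicF.XTmap f b from pullback.lift_fst _ _ _,
      show Spec.map (CommRingCat.ofHom (algebraMap (B.left.residueField t) Ω)) ≫ B.left.fromSpecResidueField t = β from hα]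
    exact sq
  obtain ⟨e⟩ := PicClLib.nonempty_pullback_structureModule (q.fiberι t)
  refine finsum_congr fun i => ?_
  rw [CurveBC.finrank_hh_unit (B.left.residueField t) Ω g hpb i,
    ← (CurveCohLib.hhEquiv (k := B.left.residueField t) (X := q.fiber t) e i).finrank_eq]
  rfl

/-- The degree on the curve is the one of the unique fibre. -/
theorem deg_curve {L : (PicF.XT f (Over.mk τ)).Modules} (hL : PicF.IsInvertible L)
    (h : AbDual.IsPicZeroCl f (Over.mk τ) (PicF.cl L)) : Curv2.deg Ω (PicF.XT f (Over.mk τ)) L 1 = 0 := by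
  obtain ⟨w, ⟨L', hL', hw, h0⟩, hwL⟩ := degZero_of_isPicZeroCl f h
  obtain ⟨e₀⟩ := cl_eq_iff.1 (hw.trans hwL)
  let q : PicF.XT f (Over.mk τ) ⟶ Spec (CommRingCat.of Ω) := PicF.XTproj f (Over.mk τ)
  let t : Spec (CommRingCat.of Ω) := IsLocalRing.closedPoint Ω
  let β : Spec (CommRingCat.of Ω) ⟶ Spec (CommRingCat.of Ω) := 𝟙 _
  let α : (Spec (CommRingCat.of Ω)).residueField (β t) ⟶ CommRingCat.of Ω :=
    (Spec (CommRingCat.of Ω)).descResidueField (Scheme.stalkClosedPointTo β)
  have hα : Spec.map α ≫ (Spec (CommRingCat.of Ω)).fromSpecResidueField (β t) = β :=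
    Scheme.descResidueField_stalkClosedPointTo_fromSpecResidueField Ω _ β
  letI : Algebra ((Spec (CommRingCat.of Ω)).residueField (β t)) Ω := α.hom.toAlgebra
  haveI : IsProper q := inferInstanceAs (IsProper (pullback.snd f τ))
  haveI := fibre_isProper q (β t)
  haveI : IsNoetherian (q.fiber (β t)) :=
    CurveCohLib.isNoetherian_of_proper (k := (Spec (CommRingCat.of Ω)).residueField (β t)) (X := q.fiber (β t))
  have sq : IsPullback (𝟙 _) (pullback.snd f τ) q β := IsPullback.of_horiz_isIso ⟨(Category.id_comp _).trans (Category.comp_id _).symm⟩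
  let g : PicF.XT f (Over.mk τ) ⟶ q.fiber (β t) :=
    pullback.lift (𝟙 _) (pullback.snd f τ ≫ Spec.map α)
      (sq.w.trans ((congrArg (pullback.snd f τ ≫ ·) hα.symm).trans (Category.assoc _ _ _).symm))
  have hpb : IsPullback g (PicF.XT f (Over.mk τ) ↘ Spec (CommRingCat.of Ω))
      (q.fiber (β t) ↘ Spec (CommRingCat.of ((Spec (CommRingCat.of Ω)).residueField (β t))))
      (Spec.map (CommRingCat.ofHom (algebraMap ((Spec (CommRingCat.of Ω)).residueField (β t)) Ω))) := by
    refine IsPullback.of_right ?_ (pullback.lift_snd _ _ _) (IsPullback.of_hasPullback q _)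
    rw [show g ≫ pullback.fst q ((Spec (CommRingCat.of Ω)).fromSpecResidueField (β t)) = 𝟙 _ from pullback.lift_fst _ _ _,
      show Spec.map (CommRingCat.ofHom (algebraMap ((Spec (CommRingCat.of Ω)).residueField (β t)) Ω)) ≫
        (Spec (CommRingCat.of Ω)).fromSpecResidueField (β t) = β from hα]
    exact sq
  have e : (Scheme.Modules.pullback g).obj ((Scheme.Modules.pullback (q.fiberι (β t))).obj L') ≅ L :=
    (Scheme.Modules.pullbackComp g (q.fiberι (β t))).app L' ≪≫
      (Scheme.Modules.pullbackCongr (pullback.lift_fst _ _ _)).app L' ≪≫ (Scheme.Modules.pullbackId _).app L' ≪≫ e₀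
  rw [← CurveRR.deg_congr Ω e 1, CurveBC.deg_eq ((Spec (CommRingCat.of Ω)).residueField (β t)) Ω g hpb _
    (ProjUPX.isQCoh_of_isInvertible (PicClLib.isInvertible_pullback _ hL')) 1]
  exact h0 _

theorem exists_ptMod_eq (Q : Over.mk τ ⟶ Over.mk f) : ∃ (p : PicF.XT f (Over.mk τ)) (hp : IsClosed ({p} : Set _)),
    (idCl f Q).val = PicF.cl (ptMod p hp) := by
  let s : Spec (CommRingCat.of Ω) ⟶ PicF.XT f (Over.mk τ) := sct f Q
  have hs : s ≫ (PicF.XT f (Over.mk τ) ↘ Spec (CommRingCat.of Ω)) = 𝟙 _ := pullback.lift_snd _ _ _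
  haveI : IsClosedImmersion s := isClosedImmersion_of_comp_eq_id _ _ hs
  have hr : Set.range s = {s (IsLocalRing.closedPoint Ω)} :=
    Set.range_eq_singleton_iff.2 fun a => congrArg s (Subsingleton.elim _ _)
  have hp : IsClosed ({s (IsLocalRing.closedPoint Ω)} : Set _) := hr ▸ s.isClosedEmbedding.isClosed_range
  exact ⟨_, hp, (idCl_val f Q).trans (congrArg (fun I => PicF.cl (ClSub.idealMod I)) (ker_point Ω s hp rfl))⟩

theorem exists_point_of_closed {z : PicF.XT f (Over.mk τ)} (hz : IsClosed ({z} : Set _)) :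
    ∃ P : Over.mk τ ⟶ Over.mk f, (idCl f P).val = PicF.cl (ptMod z hz) := by
  let x := pointOfClosedPoint (PicF.XT f (Over.mk τ) ↘ Spec (CommRingCat.of Ω)) z hz
  have hx : x ≫ (PicF.XT f (Over.mk τ) ↘ Spec (CommRingCat.of Ω)) = 𝟙 _ := pointOfClosedPoint_comp _ z hz
  let P : Over.mk τ ⟶ Over.mk f := Over.homMk (x ≫ pullback.fst f τ)
    (show (x ≫ pullback.fst f τ) ≫ f = τ by
      rw [Category.assoc, pullback.condition, ← Category.assoc]
      exact (congrArg (· ≫ τ) hx).trans (Category.id_comp _))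
  have hP : sct f P = x := pullback.hom_ext (pullback.lift_fst _ _ _) ((pullback.lift_snd _ _ _).trans hx.symm)
  haveI : IsClosedImmersion x := isClosedImmersion_of_comp_eq_id _ _ hx
  refine ⟨P, (idCl_val f P).trans ?_⟩
  rw [hP]
  exact congrArg (fun I => PicF.cl (ClSub.idealMod I))
    (ker_point Ω x hz (pointOfClosedPoint_apply (PicF.XT f (Over.mk τ) ↘ Spec (CommRingCat.of Ω)) z hz _))

/-- A class of degree zero is a sum of `N` differences of points once `N > g - 1`. -/
theorem exists_points_cl {c : PicF.Cl (PicF.XT f (Over.mk τ))} (hc : AbDual.IsPicZeroCl f (Over.mk τ) c)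
    (Q : Over.mk τ ⟶ Over.mk f) {N : ℕ}
    (hN : 0 < (N : ℤ) + Curv2.euler Ω (PicF.XT f (Over.mk τ)) (Coh.structureModule _)) :
    ∃ P : Fin N → (Over.mk τ ⟶ Over.mk f), c = (∏ i, idCl f Q * (idCl f (P i))⁻¹).val := by
  classical
  obtain ⟨L, rfl, hL, hL0⟩ := hc
  have hdL := deg_curve f τ hL ⟨L, rfl, hL, hL0⟩
  haveI := CurveCohLib.isNoetherian_of_proper (k := Ω) (X := PicF.XT f (Over.mk τ))
  have hdim := curve_dim f τ
  obtain ⟨p₀, hp₀, hQ⟩ := exists_ptMod_eq f τ Q
  have hI := isInvertible_ptMod p₀ hp₀ Ω hdim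
  have hIN := InvX.isInvertible_tensorPow (n := N) hI
  obtain ⟨L', hL', hdL', ⟨eL⟩⟩ := CurveDuality.exists_inverse_deg Ω hdim hL
  let M := CohB1.tensorMod L' (CohB1.tensorPow (ptMod p₀ hp₀) N)
  have hM : PicF.IsInvertible M := InvX.isInvertible_tensorMod hL' hIN
  have hdM : Curv2.deg Ω (PicF.XT f (Over.mk τ)) M 1 = -(N : ℤ) := by
    have key : ∀ j : ℕ, Curv2.deg Ω (PicF.XT f (Over.mk τ)) (CohB1.tensorPow (ptMod p₀ hp₀) j) 1 = -(j : ℤ) := by
      intro j
      induction j with
      | zero => exact (CurveDeg.deg_structureModule Ω).trans (by simp)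
      | succ j ih =>
        refine (CurveRR.deg_tensor Ω hdim (InvX.isInvertible_tensorPow (n := j) hI) hI).trans ?_
        rw [ih, deg_ptMod p₀ hp₀ Ω]
        push_cast; ring
    refine (CurveRR.deg_tensor Ω hdim hL' hIN).trans ?_
    rw [hdL', hdL, key, neg_zero, zero_add]
  obtain ⟨B, hB, hdB, ⟨eB⟩⟩ := CurveDuality.exists_inverse_deg Ω hdim hM
  have hBc := CurveDeg.isCoh_of_isInvertible hB
  have hh0 : 0 < Module.finrank Ω
      (Coh.HH (PicF.XT f (Over.mk τ)) ((DCoh.tensorBi.obj B).obj (Coh.structureModule _)) 0) := by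
    rw [(CurveCohLib.hhEquiv (k := Ω) (KFlatLib.tensorUnitIso B) 0).finrank_eq]
    have h := CurveRR.euler_eq_h0_sub_h1 Ω hdim.le hBc.1
    rw [hdM] at hdB
    unfold Curv2.deg at hdB
    push_cast at hdB
    omega
  haveI := CurveCohLib.finite_HH (k := Ω) (CurveTensor.isCoh_tensor
    (fun x => let ⟨U, hx, e⟩ := InvEnd.isFinLocFreeOfRank_one hB x; ⟨U, 1, hx, e⟩) QCoh.isCoh_structureModule') 0
  obtain ⟨v, hv⟩ := Module.finrank_pos_iff_exists_ne_zero.1 hh0
  obtain ⟨z, hz, hcl⟩ := exists_points Ω hdim N M hM (CurveDuality.homOfTwist eB _ v)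
    (CurveDuality.homOfTwist_ne_zero eB hv) hdM
  choose P hP using fun i => exists_point_of_closed f τ (hz i)
  refine ⟨P, ?_⟩
  have h1 : PicF.cl L * PicF.cl L' = 1 := cl_eq_iff.2 ⟨eL⟩
  have hM' : PicF.cl M = PicF.cl L' * PicF.cl (ptMod p₀ hp₀) ^ N :=
    (cl_tensor _ _).trans (congrArg _ (cl_tensorPow _ N))
  have h2 : PicF.cl L * (∏ i, idCl f (P i)).val = (idCl f Q ^ N).val := by
    rw [Units.coe_prod, Finset.prod_congr rfl fun i _ => hP i, ← hcl, hM', ← mul_assoc, h1, one_mul,
      Units.val_pow_eq_pow_val, hQ]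
  rw [Finset.prod_mul_distrib, Finset.prod_const, Finset.card_univ, Fintype.card_fin, Finset.prod_inv_distrib,
    Units.val_mul, ← h2, mul_assoc, ← Units.val_mul, mul_inv_cancel, Units.val_one, mul_one]

end Field

end Groth.Agent.Jacobian
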