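import Groth.Agent.Jacobian.Points
import Mathlib.AlgebraicGeometry.Morphisms.FlatDescent

/-!
# Fibre powers of the curve and the map to `Pic⁰`
-/

set_option autoImplicit false
set_option maxHeartbeats 1600000
set_option linter.style.haveILetI false
set_option linter.unusedSectionVars false
set_option backward.isDefEq.respectTransparency false
set_option backward.isDefEq.respectTransparency.types false

universe u

open CategoryTheory CategoryTheory.Limits AlgebraicGeometry TopologicalSpace

noncomputable section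

namespace Groth.Agent.Jacobian

open Groth.Agent Groth.Agent.H23 Groth.Agent.H23.PicMul Groth.Agent.GenusOneX
open scoped Groth.Agent.H23.PicMul

variable {C S : Scheme.{u}} (f : C ⟶ S) [IsProper f] [SmoothOfRelativeDimension 1 f] [GeometricallyConnected f]

/-- The `n`-th fibre power over a base with a point, with the class `Σ (P_i - Q)`. -/
theorem exists_family {B : Over S} (Q : B ⟶ Over.mk f) (n : ℕ) :
    ∃ (X : Over S) (r : X ⟶ B) (v : (PicF.Cl (PicF.XT f X))ˣ), IsProper r.left ∧ GeometricallyConnected r.left ∧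
      UniversallyOpen r.left ∧ v ∈ degZero f X ∧
      ∀ (T : Over S) (b : T ⟶ B) (P : Fin n → (T ⟶ Over.mk f)), ∃ x : T ⟶ X, x ≫ r = b ∧
        Units.map (pullHom (PicF.XTmap f x)) v = ∏ i, idCl f (b ≫ Q) * (idCl f (P i))⁻¹ := by
  induction n with
  | zero =>
    refine ⟨B, 𝟙 B, 1, inferInstanceAs (IsProper (𝟙 B.left)), ?_, inferInstanceAs (UniversallyOpen (𝟙 B.left)),
      one_mem _, fun T b _ => ⟨b, Category.comp_id b, by rw [map_one, Fin.prod_univ_zero]⟩⟩
    refine ⟨fun K _ y Z fst snd h => ?_⟩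
    haveI : IsIso snd := h.isIso_snd_of_isIso
    exact (snd.homeomorph.connectedSpace_iff).2 inferInstance
  | succ n ih =>
    obtain ⟨X, r, v, hr, hrc, hro, hv, hlift⟩ := ih
    haveI := hr
    haveI := hrc
    haveI := hro
    haveI : Smooth f := SmoothOfRelativeDimension.smooth 1 f
    let Y : Over S := AbDual.ovr X (PicF.XTproj f X)
    let π : Y ⟶ X := AbDual.ovrHom X (PicF.XTproj f X)
    let P0 : Y ⟶ Over.mk f := Over.homMk (pullback.fst f X.hom) pullback.condition
    let v' := Units.map (pullHom (PicF.XTmap f π)) v * (idCl f (π ≫ r ≫ Q) * (idCl f P0)⁻¹)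
    haveI : IsProper π.left := inferInstanceAs (IsProper (pullback.snd f X.hom))
    haveI : GeometricallyConnected π.left := inferInstanceAs (GeometricallyConnected (pullback.snd f X.hom))
    haveI : UniversallyOpen π.left := inferInstanceAs (UniversallyOpen (pullback.snd f X.hom))
    refine ⟨Y, π ≫ r, v', inferInstanceAs (IsProper (π.left ≫ r.left)), GeometricallyConnected.comp π.left r.left,
      inferInstanceAs (UniversallyOpen (π.left ≫ r.left)), mul_mem ?_ (idCl_div_mem f _ _), fun T b P => ?_⟩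
    · rw [mem_degZero_iff] at hv ⊢
      exact isPicZeroCl_pull f π hv
    obtain ⟨x, hx, hxv⟩ := hlift T b (fun i => P i.succ)
    have hw : (P 0).left ≫ f = x.left ≫ X.hom := (Over.w (P 0)).trans (Over.w x).symm
    let y : T ⟶ Y := Over.homMk (pullback.lift (P 0).left x.left hw)
      ((Category.assoc _ _ _).symm.trans ((congrArg (· ≫ X.hom) (pullback.lift_snd _ _ _)).trans (Over.w x)))
    have hy : y ≫ π = x := Over.OverMorphism.ext (pullback.lift_snd _ _ _)
    have hy0 : y ≫ P0 = P 0 := Over.OverMorphism.ext (pullback.lift_fst _ _ _)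
    refine ⟨y, by rw [← Category.assoc, hy, hx], ?_⟩
    have h1 : Units.map (pullHom (PicF.XTmap f y)) (Units.map (pullHom (PicF.XTmap f π)) v) =
        Units.map (pullHom (PicF.XTmap f x)) v := by
      refine Units.ext ?_
      show PicF.pullCl _ (PicF.pullCl _ v.val) = PicF.pullCl _ v.val
      rw [LineDesc.Rig.pullCl_XTmap_comp, hy]
    rw [Fin.prod_univ_succ, map_mul, map_mul, map_inv, map_idCl, map_idCl, h1, hxv, hy0,
      show y ≫ π ≫ r ≫ Q = b ≫ Q by rw [← Category.assoc, hy, ← Category.assoc, hx], mul_comm]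

variable {P₀ : Over S} {φ₀ : ∀ T : Over S, PicF.Cl (PicF.XT f T) → (T ⟶ P₀)}
  (hP₀ : AbDual.IsRelPicZeroK Scheme.fppfPrecoverage f P₀ φ₀)

include hP₀ in
/-- A point of `Pic⁰` with values in an algebraically closed field comes from a class. -/
theorem exists_cl_of_point {Ω : Type u} [Field Ω] [IsAlgClosed Ω] {τ : Spec (CommRingCat.of Ω) ⟶ S}
    (g : Over.mk τ ⟶ P₀) : ∃ c, AbDual.IsPicZeroCl f (Over.mk τ) c ∧ φ₀ (Over.mk τ) c = g := by
  obtain ⟨R, hR, hRe⟩ := hP₀.locallySurjective _ g
  obtain ⟨U, v, s, hv, hs⟩ := exists_rationalPoint hR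
  obtain ⟨c, hc, hφ⟩ := hRe v hv
  let σ : Over.mk τ ⟶ AbDual.ovr (Over.mk τ) v := Over.homMk s
    (show s ≫ v ≫ τ = τ by rw [← Category.assoc, hs, Category.id_comp])
  have hσ : σ ≫ AbDual.ovrHom (Over.mk τ) v = 𝟙 _ := Over.OverMorphism.ext hs
  exact ⟨_, isPicZeroCl_pull f σ hc, by rw [hP₀.natural _ _ σ c hc, hφ, ← Category.assoc, hσ, Category.id_comp]⟩

include hP₀ in
/-- Over a base with a point, a fibre power of the curve surjects onto `Pic⁰`. -/
theorem exists_surjection (B : Over S) [CompactSpace B.left] (Q : B ⟶ Over.mk f) :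
    ∃ (X : Scheme.{u}) (r : X ⟶ B.left) (a : X ⟶ pullback P₀.hom B.hom), IsProper r ∧ GeometricallyConnected r ∧
      UniversallyOpen r ∧ Surjective a ∧ a ≫ pullback.snd P₀.hom B.hom = r := by
  obtain ⟨N, hN⟩ := exists_chi_bound f B
  obtain ⟨X, r, v, hr, hrc, hro, hv, hlift⟩ := exists_family f Q N
  have hvz : AbDual.IsPicZeroCl f X v.val := (mem_degZero_iff f).1 hv
  have hw : (φ₀ X v.val).left ≫ P₀.hom = r.left ≫ B.hom := (Over.w _).trans (Over.w r).symm
  refine ⟨X.left, r.left, pullback.lift (φ₀ X v.val).left r.left hw, hr, hrc, hro, ⟨fun z => ?_⟩,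
    pullback.lift_snd _ _ _⟩
  let Ω := AlgebraicClosure ((pullback P₀.hom B.hom).residueField z)
  let ξ : Spec (CommRingCat.of Ω) ⟶ pullback P₀.hom B.hom :=
    Spec.map (CommRingCat.ofHom (algebraMap ((pullback P₀.hom B.hom).residueField z) Ω)) ≫
      (pullback P₀.hom B.hom).fromSpecResidueField z
  let τ : Spec (CommRingCat.of Ω) ⟶ S := ξ ≫ pullback.fst P₀.hom B.hom ≫ P₀.hom
  let g : Over.mk τ ⟶ P₀ := Over.homMk (ξ ≫ pullback.fst P₀.hom B.hom) (Category.assoc _ _ _)
  let b : Over.mk τ ⟶ B := Over.homMk (ξ ≫ pullback.snd P₀.hom B.hom)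
    (show (ξ ≫ pullback.snd P₀.hom B.hom) ≫ B.hom = τ by rw [Category.assoc, ← pullback.condition])
  obtain ⟨c, hc, hφ⟩ := exists_cl_of_point f hP₀ g
  have hE := euler_curve f τ b
  obtain ⟨P, hP⟩ := exists_points_cl f τ hc (b ≫ Q) (N := N) (by rw [hE]; exact hN _)
  obtain ⟨x, hx, hxv⟩ := hlift _ b P
  refine ⟨x.left (IsLocalRing.closedPoint Ω), ?_⟩
  have hxg : x ≫ φ₀ X v.val = g := by
    rw [← hP₀.natural _ _ x _ hvz, ← hφ, hP, ← hxv]
    rfl
  have hl : x.left ≫ pullback.lift (φ₀ X v.val).left r.left hw = ξ := by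
    refine pullback.hom_ext ?_ ?_
    · rw [Category.assoc, pullback.lift_fst]
      exact congrArg CommaMorphism.left hxg
    · rw [Category.assoc, pullback.lift_snd]
      exact congrArg CommaMorphism.left hx
  have h := congrArg (fun m => m.base (IsLocalRing.closedPoint Ω)) hl
  exact h.trans ((pullback P₀.hom B.hom).fromSpecResidueField_apply z _)

include hP₀ in
/-- `Pic⁰` is universally closed over a base with a point. -/
theorem universallyClosed_pullback_snd (B : Over S) [CompactSpace B.left] (Q : B ⟶ Over.mk f) :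
    UniversallyClosed (pullback.snd P₀.hom B.hom) := by
  obtain ⟨X, r, a, hr, -, -, ha, e⟩ := exists_surjection f hP₀ B Q
  haveI := ha
  haveI : UniversallyClosed (a ≫ pullback.snd P₀.hom B.hom) := by rw [e]; infer_instance
  exact UniversallyClosed.of_comp_surjective a _

include hP₀ in
/-- The geometric fibres of `Pic⁰` are connected. -/
theorem geometricallyConnected_hom : GeometricallyConnected P₀.hom := by
  refine ⟨geometrically_iff_of_isClosedUnderIsomorphisms.2 fun K _ y => ?_⟩
  let ι : Spec (CommRingCat.of (AlgebraicClosure K)) ⟶ Spec (CommRingCat.of K) :=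
    Spec.map (CommRingCat.ofHom (algebraMap K (AlgebraicClosure K)))
  haveI : Surjective ι := ⟨fun p => ⟨IsLocalRing.closedPoint (AlgebraicClosure K), Subsingleton.elim _ _⟩⟩
  let p : pullback f (ι ≫ y) ⟶ Spec (CommRingCat.of (AlgebraicClosure K)) := pullback.snd f (ι ≫ y)
  haveI : IsProper p := inferInstanceAs (IsProper (pullback.snd f (ι ≫ y)))
  haveI : GeometricallyConnected p := inferInstanceAs (GeometricallyConnected (pullback.snd f (ι ≫ y)))
  haveI : JacobsonSpace ↥(pullback f (ι ≫ y)) := LocallyOfFiniteType.jacobsonSpace p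
  haveI : Nonempty ↥(pullback f (ι ≫ y)) := ⟨(p.surjective (IsLocalRing.closedPoint _)).choose⟩
  obtain ⟨z, hz⟩ : (closedPoints ↥(pullback f (ι ≫ y))).Nonempty := by
    rw [Set.nonempty_iff_ne_empty]
    intro h
    have h' := closure_closedPoints (X := ↥(pullback f (ι ≫ y)))
    rw [h, closure_empty] at h'
    exact (Set.univ_nonempty (α := ↥(pullback f (ι ≫ y)))).ne_empty h'.symm
  have hx : pointOfClosedPoint p z hz ≫ pullback.snd f (ι ≫ y) = 𝟙 _ := pointOfClosedPoint_comp p z hz
  let B : Over S := Over.mk (ι ≫ y)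
  let Q : B ⟶ Over.mk f := Over.homMk (pointOfClosedPoint p z hz ≫ pullback.fst f (ι ≫ y))
    (show (pointOfClosedPoint p z hz ≫ pullback.fst f (ι ≫ y)) ≫ f = ι ≫ y by
      rw [Category.assoc, pullback.condition, ← Category.assoc, hx, Category.id_comp])
  haveI : CompactSpace B.left := inferInstanceAs (CompactSpace (Spec (CommRingCat.of (AlgebraicClosure K))))
  obtain ⟨X, r, a, -, hrc, hro, ha, -⟩ := exists_surjection f hP₀ B Q
  haveI := hrc
  haveI := hro
  haveI : ConnectedSpace B.left := inferInstanceAs (ConnectedSpace (PrimeSpectrum (AlgebraicClosure K)))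
  haveI : ConnectedSpace X := GeometricallyConnected.connectedSpace r r.isOpenMap
  haveI : ConnectedSpace ↥(pullback P₀.hom (ι ≫ y)) := ha.surj.connectedSpace a.continuous
  let m : pullback P₀.hom (ι ≫ y) ⟶ pullback P₀.hom y :=
    (pullbackLeftPullbackSndIso P₀.hom y ι).inv ≫ pullback.fst _ _
  haveI : Surjective m := inferInstance
  exact m.surjective.connectedSpace m.continuous

end Groth.Agent.Jacobian
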